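import Groth.Prelude.Def_OneMot
import Groth.Prelude.Def_AlgGrp
import Groth.Agent.L13.CGrpExt.Descend
import Groth.Agent.L25.Locus.CentConnAll
import Groth.Agent.L26.AV.GroupSep
import Groth.Agent.L19.AlgGrpBasic.Descent
import Groth.Agent.L26.AV.SmoothField
import Groth.Agent.L08.Cube.SliceFibre
import Mathlib.CategoryTheory.Sites.LocallySurjective
import Mathlib.Algebra.Homology.ShortComplex.Ab

/-!
# Short exact sequences of commutative group schemes
-/


set_option autoImplicit false
set_option linter.style.haveILetI false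
set_option backward.isDefEq.respectTransparency.types false

universe u

open CategoryTheory CategoryTheory.Limits MonoidalCategory CartesianMonoidalCategory MonObj AlgebraicGeometry
open Opposite

noncomputable section

namespace Groth.L24.ExtSeq

section Base

variable {S : Scheme.{u}} {T G A : Over S} [GrpObj T] [IsCommMonObj T] [GrpObj G] [IsCommMonObj G]
  [GrpObj A] [IsCommMonObj A] {incl : T ⟶ G} {proj : G ⟶ A} [IsMonHom incl] [IsMonHom proj]

/-- A point as a section of the sheaf of points. -/
abbrev el {X : Over S} [GrpObj X] [IsCommMonObj X] {V : Over S} (x : V ⟶ X) :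
    (CGrpSh.pts Scheme.fppfPrecoverage X).obj.obj (op V) := ULift.up (Additive.ofMul x)

theorem el_injective {X : Over S} [GrpObj X] [IsCommMonObj X] {V : Over S} {x y : V ⟶ X} (h : el x = el y) :
    x = y :=
  congrArg (fun z => Additive.toMul (ULift.down z)) h

variable (w : incl ≫ proj = 1) (h : (CGrpSh.seq Scheme.fppfPrecoverage incl proj w).ShortExact)

include w h in
theorem incl_comp_proj {V : Over S} (t : V ⟶ T) : (t ≫ incl) ≫ proj = 1 := by
  rw [Category.assoc, w, MonObj.comp_one]

include w h in
theorem mono_incl : Mono incl := ⟨fun {V} a b hab => by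
  haveI : Mono (CGrpSh.seq Scheme.fppfPrecoverage incl proj w).f := h.mono_f
  have hinj : Function.Injective
      ((CGrpSh.seq Scheme.fppfPrecoverage incl proj w).f.hom.app (op V)) :=
    (AddCommGrpCat.mono_iff_injective _).1 (inferInstanceAs
      (Mono ((sheafToPresheaf _ _ ⋙ (evaluation _ _).obj (op V)).map
        (CGrpSh.seq Scheme.fppfPrecoverage incl proj w).f)))
  exact el_injective (hinj (a₁ := el a) (a₂ := el b) (congrArg el hab))⟩

include w h in
/-- Points killed by the projection come from the torus. -/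
theorem exists_lift_ker {V : Over S} (g : V ⟶ G) (hg : g ≫ proj = 1) : ∃ t : V ⟶ T, t ≫ incl = g := by
  haveI : Mono (CGrpSh.seq Scheme.fppfPrecoverage incl proj w).f := h.mono_f
  have hex := h.exact.map_of_mono_of_preservesKernel
    (sheafToPresheaf _ _ ⋙ (evaluation _ AddCommGrpCat.{u+1}).obj (op V)) inferInstance inferInstance
  obtain ⟨z, hz⟩ := (ShortComplex.ab_exact_iff _).1 hex (el g) (congrArg el hg)
  exact ⟨z.down.toMul, el_injective hz⟩

include w h in
theorem isKernel : AlgGrp.IsKernel incl proj := by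
  haveI := mono_incl w h
  have w : incl ≫ proj = toUnit T ≫ η[A] := by rw [← Hom.one_def]; exact w
  refine IsPullback.of_isLimit (c := PullbackCone.mk incl (toUnit T) w) ?_
  have hl : ∀ s : PullbackCone proj η[A], ∃ t : s.pt ⟶ T, t ≫ incl = s.fst := fun s =>
    exists_lift_ker w h s.fst (by rw [s.condition, Hom.one_def, toUnit_unique s.snd (toUnit s.pt)])
  exact PullbackCone.IsLimit.mk _ (fun s => (hl s).choose) (fun s => (hl s).choose_spec)
    (fun s => toUnit_unique _ _) fun s m hm _ => (cancel_mono incl).1 (hm.trans (hl s).choose_spec.symm)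

include w h in
/-- Near every point of the quotient there are lifts after a flat base change of finite presentation. -/
theorem exists_lift_at (a : A.left) : ∃ (V : Over S) (c : V ⟶ A) (s : V ⟶ G),
    Flat c.left ∧ LocallyOfFinitePresentation c.left ∧ a ∈ Set.range c.left ∧ s ≫ proj = c := by
  haveI : Epi (CGrpSh.seq Scheme.fppfPrecoverage incl proj w).g := h.epi_g
  haveI := (Sheaf.isLocallySurjective_iff_epi' _ (CGrpSh.seq Scheme.fppfPrecoverage incl proj w).g).2 ‹_›
  have h1 := Presheaf.imageSieve_mem (QuotSh.J Scheme.fppfPrecoverage S)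
    (CGrpSh.seq Scheme.fppfPrecoverage incl proj w).g.hom (el (𝟙 A))
  rw [GrothendieckTopology.mem_over_iff, Precoverage.mem_toGrothendieck_iff_of_isStableUnderComposition] at h1
  obtain ⟨R, hR, hle⟩ := h1
  obtain ⟨hsurj, hP⟩ := (Scheme.presieve₀_mem_precoverage_iff _).1
    (show (Precoverage.mem_iff_exists_zeroHypercover.1 hR).choose.presieve₀ ∈ Scheme.fppfPrecoverage _ from
      (Precoverage.mem_iff_exists_zeroHypercover.1 hR).choose.mem₀)
  obtain ⟨i, hi⟩ := hsurj a
  let E := (Precoverage.mem_iff_exists_zeroHypercover.1 hR).choose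
  have hER : R = E.presieve₀ := (Precoverage.mem_iff_exists_zeroHypercover.1 hR).choose_spec
  obtain ⟨s, hs⟩ := (Sieve.overEquiv_iff _ _).1 (hle _ (E.f i) (hER ▸ Presieve.ofArrows.mk i))
  exact ⟨Over.mk (E.f i ≫ A.hom), Over.homMk (E.f i) rfl, s.down.toMul, (hP i).1, (hP i).2, hi,
    (el_injective hs).trans (Category.comp_id _)⟩

include w h in
/-- A single covering of the quotient with a lift. -/
theorem exists_cover : ∃ (V : Over S) (c : V ⟶ A) (s : V ⟶ G),
    Flat c.left ∧ LocallyOfFinitePresentation c.left ∧ Surjective c.left ∧ s ≫ proj = c := by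
  choose V c s hf hp ha hs using exists_lift_at w h
  let d := Sigma.desc fun a => (c a).left
  let sl := Sigma.desc fun a => (s a).left
  have hw : sl ≫ G.hom = d ≫ A.hom := Sigma.hom_ext _ _ fun a => by
    simp only [sl, d, Sigma.ι_desc_assoc, Over.w]
  refine ⟨Over.mk (d ≫ A.hom), Over.homMk d rfl, Over.homMk sl hw, ?_, ?_, ?_, Over.OverMorphism.ext ?_⟩
  · exact IsZariskiLocalAtSource.sigmaDesc (P := @Flat) hf
  · exact IsZariskiLocalAtSource.sigmaDesc (P := @LocallyOfFinitePresentation) hp
  · exact Surjective.sigmaDesc_of_union_range_eq_univ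
      (Set.eq_univ_of_forall fun a => Set.mem_iUnion.2 ⟨a, ha a⟩)
  · refine Sigma.hom_ext _ _ fun a => ?_
    simp only [sl, d, Over.comp_left, Over.homMk_left, Sigma.ι_desc_assoc, Sigma.ι_desc]
    rw [← Over.comp_left, hs a]

include w h in
/-- Properties of the torus pass to the projection. -/
theorem proj_prop (P : MorphismProperty Scheme.{u}) [P.IsStableUnderBaseChange]
    [P.DescendsAlong (@Surjective ⊓ @Flat ⊓ @LocallyOfFinitePresentation)] (hT : P T.hom) :
    P proj.left := by
  obtain ⟨V, c, s, hf, hp, hc, hs⟩ := exists_cover w h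
  let m : T ⊗ V ⟶ G := (fst T V ≫ incl) * (snd T V ≫ s)
  have hm : m ≫ proj = snd T V ≫ c := by
    rw [MonObj.mul_comp, incl_comp_proj w h, _root_.one_mul, Category.assoc, hs]
  haveI := mono_incl w h
  have hl : ∀ z : PullbackCone proj c, ∃ t : z.pt ⟶ T, t ≫ incl = z.fst / (z.snd ≫ s) := fun z =>
    exists_lift_ker w h _ (by rw [GrpObj.div_comp, Category.assoc, hs, z.condition, div_self'])
  have hsq : IsPullback m (snd T V) proj c := by
    refine IsPullback.of_isLimit (c := PullbackCone.mk m (snd T V) hm) ?_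
    refine PullbackCone.IsLimit.mk _ (fun z => lift (hl z).choose z.snd) (fun z => ?_)
      (fun z => lift_snd _ _) fun z n hn₁ hn₂ => ?_
    · show lift _ _ ≫ ((fst T V ≫ incl) * (snd T V ≫ s)) = _
      rw [MonObj.comp_mul, lift_fst_assoc, lift_snd_assoc, (hl z).choose_spec, div_mul_cancel]
    · apply CartesianMonoidalCategory.hom_ext
      · rw [lift_fst, ← cancel_mono incl, (hl z).choose_spec, eq_div_iff_mul_eq', ← hn₁]
        show _ = n ≫ ((fst T V ≫ incl) * (snd T V ≫ s))
        rw [MonObj.comp_mul, Category.assoc, ← hn₂, Category.assoc]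
      · rw [lift_snd]; exact hn₂
  have h1 : P (snd T V).left :=
    MorphismProperty.of_isPullback (Groth.L19.AlgGrpBasic.isPullback_left T V) hT
  exact MorphismProperty.of_isPullback_of_descendsAlong
    (Q := @Surjective ⊓ @Flat ⊓ @LocallyOfFinitePresentation) (hsq.map (Over.forget _)).flip
    ⟨⟨hc, hf⟩, hp⟩ h1

end Base

end Groth.L24.ExtSeq
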